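import Cfsg.Agent.H339.Tor.Sect
import Cfsg.Agent.KFacts.Baby.RowB
import Cfsg.Agent.H792.Sp.BFive

/-!
# S3235: the Baby Monster (helper339)

* `order_le` : `B` is a 4-transposition group;
* `kill_b` : no subgroup with `Pr p`, if the centralisers of the involutions contain none; `p = 5` through `HN`, `p = 7`
  by the index of `C(2A)`, `p ≥ 11` by the 4-transpositions.
-/

set_option autoImplicit false
set_option linter.unusedSectionVars false

namespace Cfsg.Agent.H339.Tor.B

open Subgroup Cfsg Cfsg.Agent.H103.Tor Cfsg.Agent.H33.Tor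
open Cfsg.Agent.BabyM Cfsg.Agent.BabyM.Model

universe u

section model

variable {W : Type} [AddCommGroup W] [Module ℚ W] {M : BData W} {K₀ : Type} [Group K₀]

/-- the involution -/
def tt (A : BAll M K₀) : M.G := ⟨M.t₀, A.C_le_G A.t₀_C⟩

theorem tt_sq (A : BAll M K₀) : tt A * tt A = 1 := Subtype.ext A.rep.t₀_sq

theorem tt_ne (A : BAll M K₀) : tt A ≠ 1 := fun h => A.rep.t₀_ne (congrArg Subtype.val h)

/-- **four-transpositions** -/
theorem order_le (A : BAll M K₀) (T : BTrans M) (g : M.G) :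
    ∃ n : ℕ, 0 < n ∧ n ≤ 4 ∧ (tt A * (g * tt A * g⁻¹)) ^ n = 1 := by
  obtain ⟨t, ht⟩ : ∃ t, t = tt A := ⟨_, rfl⟩
  rw [← ht]
  obtain ⟨j, h, hh, hc⟩ : (g : W ≃ₗ[ℚ] W) M.d₀ ∈ M.D := ((A.G_le g.2).2 _).2 A.d₀_mem
  obtain ⟨l, hl, hld, hord⟩ := T.order_le j
  obtain ⟨n, hn0, hn4, hpow⟩ := hord h⁻¹ (M.C.inv_mem hh)
  have h1 := A.conj_t h l (g : W ≃ₗ[ℚ] W) (A.C_le hh) (A.G_le hl) (A.G_le g.2) (Or.inl (by rw [hld, hc]))
  refine ⟨n, hn0, hn4, ?_⟩
  apply Subtype.ext
  have e2 : ((t * (g * t * g⁻¹) : M.G) : W ≃ₗ[ℚ] W) =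
      h * ((h⁻¹ * M.t₀ * h⁻¹⁻¹) * (l * M.t₀ * l⁻¹)) * h⁻¹ := by
    have e3 : ((t * (g * t * g⁻¹) : M.G) : W ≃ₗ[ℚ] W) =
        M.t₀ * ((g : W ≃ₗ[ℚ] W) * M.t₀ * (g : W ≃ₗ[ℚ] W)⁻¹) := by
      rw [ht]
      rfl
    rw [e3, ← h1]
    group
  change ((t * (g * t * g⁻¹) : M.G) : W ≃ₗ[ℚ] W) ^ n = 1
  rw [e2, conj_pow, hpow, mul_one, mul_inv_cancel]

end model

theorem card_cent : Nat.card (centralizer ({tt Instance.all} : Set Inst.M.G)) = 306129918735099415756800 :=
  Instance.all.card_cent Instance.tr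

/-- **the row `B`** -/
theorem kill_b {p : ℕ} (hp : p.Prime) (hp5 : 5 ≤ p) {G : Type u} [Group G] [Finite G] [IsSimpleGroup G]
    (h : Spor.IsoB G)
    (hinv : ∀ z : G, orderOf z = 2 → ∀ A : Subgroup G, Pr p A → ¬ A ≤ centralizer ({z} : Set G))
    (ih : ∀ (K : Type u) [Group K] [Finite K] [IsSimpleGroup K], Nat.card K < Nat.card G →
      (¬ ∀ x y : K, x * y = y * x) → Row p K) : Kill p G := by
  obtain ⟨e⟩ := KFacts.Baby.RowB.exists_iso h
  have hcard : Nat.card G = 4154781481226426191177580544000000 := by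
    obtain ⟨f⟩ := h
    rw [Nat.card_congr f.toEquiv, BM.KHAll.card_B]
  obtain ⟨t, ht⟩ : ∃ t : G, t = e (tt Instance.all) := ⟨_, rfl⟩
  have ht2 : t * t = 1 := by rw [ht, ← map_mul, tt_sq, map_one]
  have ht1 : t ≠ 1 := by
    rw [ht]
    intro h1
    exact tt_ne Instance.all (e.injective (h1.trans (map_one e).symm))
  have hto : orderOf t = 2 := by
    have : Fact (Nat.Prime 2) := ⟨Nat.prime_two⟩
    exact orderOf_eq_prime (by rw [pow_two, ht2]) ht1
  rcases Nat.lt_or_ge 10 p with h10 | h10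
  · intro A hA
    refine hinv t hto A hA (no_four hp h10 hA ht2 fun g => ?_)
    obtain ⟨n, h0, hn, h1⟩ := order_le Instance.all Instance.tr (e.symm g)
    refine ⟨n, h0, hn, ?_⟩
    have h2 := congrArg e h1
    rw [map_pow, map_mul, map_mul, map_mul, map_inv, e.apply_symm_apply, map_one, ← ht] at h2
    exact h2
  obtain rfl | rfl : p = 5 ∨ p = 7 := by
    interval_cases p <;> first | (exfalso; revert hp; norm_num; done) | simp
  · -- `HN`
    obtain ⟨f, hf⟩ := H792.SpBFive.exists_hom
    obtain ⟨e'⟩ := h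
    have hHN := S1701.result
    have hfin : Finite Spor.HN := Nat.finite_of_card_ne_zero (by rw [hHN.2]; norm_num)
    have hk : Kill 5 Spor.HN := kill_small (G := G) hp hp5 ih hHN.1 hHN.2 (by rw [hcard]; norm_num)
      (by norm_num) (ok_of_chk [5 ^ 6, 7, 11, 19] (by norm_num) (by decide +kernel))
    have hinj : Function.Injective (e'.symm.toMonoidHom.comp f) := e'.symm.injective.comp hf
    refine Kill.of_sylow hp hinj hk ?_
    have h1 : Nat.card (e'.symm.toMonoidHom.comp f).range = 273030912000000 := by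
      rw [← hHN.2]
      exact (Nat.card_congr (MonoidHom.ofInjective hinj).toEquiv).symm
    have h2 := Subgroup.card_mul_index (e'.symm.toMonoidHom.comp f).range
    rw [h1, hcard] at h2
    have h3 : (e'.symm.toMonoidHom.comp f).range.index = 15217256723027853312 := by omega
    rw [h3]
    norm_num
  · -- the index of `C(t)`
    refine kill_of_index (z := t) hp ?_ fun A hA => hinv t hto A hA
    have h1 : Nat.card (centralizer ({t} : Set G)) = 306129918735099415756800 := by
      rw [← card_cent, ht]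
      refine Nat.card_congr
        { toFun := fun y => ⟨e.symm y, ?_⟩
          invFun := fun y => ⟨e y, ?_⟩
          left_inv := fun y => Subtype.ext (e.apply_symm_apply _)
          right_inv := fun y => Subtype.ext (e.symm_apply_apply _) }
      · have h1 := mem_centralizer_singleton_iff.1 y.2
        rw [mem_centralizer_singleton_iff]
        have h2 := congrArg e.symm h1
        rwa [map_mul, map_mul, e.symm_apply_apply] at h2
      · have h1 := mem_centralizer_singleton_iff.1 y.2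
        rw [mem_centralizer_singleton_iff, ← map_mul, h1, map_mul]
    have h2 := Subgroup.card_mul_index (centralizer ({t} : Set G))
    rw [h1, hcard] at h2
    have h3 : (centralizer ({t} : Set G)).index = 13571955000 := by omega
    rw [h3]
    norm_num

end Cfsg.Agent.H339.Tor.B
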