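import Cfsg.Agent.H339.Tor.Seven
import Cfsg.Agent.H609.T5.MMidFive
import Cfsg.Agent.H800.ME.Final
import Cfsg.Agent.Schreier.MTwelve

/-!
# S3235: the Monster (helper339)

* `kill_model` , `kill_m` : no subgroup with `Pr p`, if the centralisers of the involutions contain none; `p = 5` and
  `p = 11` through the sections `J₂`, `M₁₂`, `p = 7` through `N(7²)`, `p ≥ 13` by the 6-transpositions.
-/

set_option autoImplicit false
set_option linter.unusedSectionVars false

namespace Cfsg.Agent.H339.Tor.M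

open Subgroup Cfsg Cfsg.Agent.H103.Tor Cfsg.Agent.H33.Tor
open Cfsg.Agent.MonsterX Cfsg.Agent.MonsterX.InstData Cfsg.Agent.MonsterX.MainPack
open Cfsg.Agent.MonsterX.MainSimple Cfsg.Agent.MonsterX.MainBasic Cfsg.Agent.MonsterX.Model
open Cfsg.Agent.BpSpor.MBigModel (MG zz card_M chart)
open Cfsg.Agent.LThreeMB (XX Zx KChart.chart)

universe u

/-- the transposition -/
noncomputable def tm : MG := tG Instance.mGroup Instance.mRep

/-- **six-transpositions** -/
theorem order_le (g : MG) : ∃ n : ℕ, 0 < n ∧ n ≤ 6 ∧ (tm * (g * tm * g⁻¹)) ^ n = 1 := by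
  have := BpSpor.MBigModel.finite
  refine ⟨_, orderOf_pos _, six Instance.mGroup Instance.mRep Instance.mLat InstanceFinal.mOrbit Instance.mTrans
    InstanceFinal.mExtra.order_le g, pow_orderOf_eq_one _⟩

theorem tm_sq : tm * tm = 1 := Subtype.ext Instance.mRep.t₀_sq

theorem tm_ne : tm ≠ 1 := fun h => Instance.mRep.t₀_ne (congrArg Subtype.val h)

theorem orderOf_tm : orderOf tm = 2 := by
  have : Fact (Nat.Prime 2) := ⟨Nat.prime_two⟩
  exact orderOf_eq_prime (by rw [pow_two, tm_sq]) tm_ne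

/-- `p = 5` -/
theorem five {A : Subgroup MG} (hA : Pr 5 A)
    (hJ : ∀ (L : Type) [Group L] [Finite L], Spor.IsoJ2 L → Kill 5 L) : False := by
  have hfin : Finite ↥InstData.M.G := MFive.Row.finite_model
  have hp : Nat.Prime 5 := by norm_num
  obtain ⟨r, hrA, hro, hAr⟩ := Cfsg.Agent.H333.SLTwoLine.exists_gen hp A hA.card
  have H : Cfsg.Agent.H609.T5.Five.Inp _ _ _ _ := ⟨KChart.chart KDone.lft MFive.Row.hc, BpSpor.M5.trNe,
    CpAutBFive.Closed.coFive H546.MFiveFull.hJ, H546.MFiveFull.hJ, CpAutBFive.Closed.hnEight, BpSpor.M5.hasPair,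
    BpSpor.M5.exists_k BpSpor.M5.hA, H546.MFiveFull.card_model, fun r hr => CpAutBFive.EvenRow.cases hr⟩
  obtain ⟨P, x, a, b, c, u, L⟩ := Cfsg.Agent.H609.T5.Five.exists_lifts H.h
  obtain ⟨f1, f2, f3, ⟨N, ρ, S, hR⟩, hcon⟩ := Cfsg.Agent.H609.T5.Five.exists_local H L.ox L.fx
  obtain ⟨g, hg, hne⟩ := Cfsg.Agent.H609.T5.Five.al_all H L hR hcon hro
  have hfX : Finite (XX (Cfsg.Agent.LThreeMB.KChart.pi MFive.Row.hc x)) := Finite.of_surjective ρ hR.surj
  have hle : cj g A ≤ centralizer ({(x : ↥InstData.M.G)} : Set ↥InstData.M.G) := by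
    rw [hAr]
    rintro _ ⟨y, hy, rfl⟩
    obtain ⟨i, rfl⟩ := mem_zpowers_iff.1 hy
    have e : (MulAut.conj g).toMonoidHom (r ^ i) = (g * r * g⁻¹) ^ i := by rw [map_zpow]; rfl
    rw [e]
    exact zpow_mem hg i
  exact kill_section hp (by norm_num) ρ hR.surj (hJ _ hR.iso) (hA.conj g) hle
    ⟨g * r * g⁻¹, conj_mem_cj hrA, hne⟩

/-- `p = 7` -/
theorem seven {A : Subgroup MG} (hA : Pr 7 A) : ∃ z : MG, orderOf z = 2 ∧ A ≤ centralizer ({z} : Set MG) := by
  have hfin := MFive.Row.finite_model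
  have hp : Nat.Prime 7 := by norm_num
  have h7 : ¬ 7 ^ 7 ∣ Nat.card ↥InstData.M.G := by
    rw [H961.SevM.card_model]
    norm_num
  obtain ⟨y, v, s', a, c, w, hL, h5⟩ := H961.SevM.exists_data'
  obtain ⟨Q, hQ, -⟩ := H961.SevM.exists_qq hL h5
  obtain ⟨s1, hS⟩ := Cfsg.Agent.H609.T5.Seven.exists_sit hL hQ h5 h7
  obtain ⟨r, hrA, hro, hAr⟩ := Cfsg.Agent.H333.SLTwoLine.exists_gen hp A hA.card
  obtain ⟨k, m, hm, h1, h2⟩ := hS.good_all h7 hro
  obtain ⟨z, hz, hle⟩ := Seven.exists_inv (hA.conj k) (conj_mem_cj hrA) hS.wo hS.ww1 hS.aw hS.aw1 hm h1 h2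
  refine ⟨k⁻¹ * z * k, ?_, ?_⟩
  · have e : k⁻¹ * z * k = MulAut.conj k⁻¹ z := by rw [MulAut.conj_apply, inv_inv]
    rw [e, MulEquiv.orderOf_eq, hz]
  · intro b hb
    have h3 := mem_centralizer_singleton_iff.1 (hle (conj_mem_cj hb : k * b * k⁻¹ ∈ cj k A))
    rw [mem_centralizer_singleton_iff]
    calc b * (k⁻¹ * z * k) = k⁻¹ * (k * b * k⁻¹ * z) * k := by group
      _ = k⁻¹ * (z * (k * b * k⁻¹)) * k := by rw [h3]
      _ = k⁻¹ * z * k * b := by group

/-- `p = 11` -/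
theorem eleven {A : Subgroup MG} (hA : Pr 11 A)
    (hinv : ∀ z : MG, orderOf z = 2 → ∀ A : Subgroup MG, Pr 11 A → ¬ A ≤ centralizer ({z} : Set MG))
    (hM : ∀ (L : Type) [Group L] [Finite L], Spor.IsoM12 L → Kill 11 L) : False := by
  have hfin := BpSpor.MBigModel.finite
  have hsim := BpSpor.MBigModel.simple
  have hp : Nat.Prime 11 := by norm_num
  have hpf : Fact (Nat.Prime 11) := ⟨hp⟩
  obtain ⟨x, hx, hpx⟩ := H800.ME.Final.exists_x
  have hxo : orderOf (x : MG) = 11 := by rw [Subgroup.orderOf_coe, hx]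
  have hd := H800.ME.Final.dvd_XX hxo
  have hiso := H800.ME.Twelve.iso chart hx hpx hd
  have hzo : orderOf zz = 2 := BpSpor.MBigModel.orderOf_zz
  have hcard : Nat.card (centralizer ({(x : MG)} : Set MG)) = 11 * Nat.card (XX (x : MG)) := by
    rw [Subgroup.card_eq_card_quotient_mul_card_subgroup (Zx (x : MG)), mul_comm]
    congr 1
    rw [Zx, Nat.card_zpowers, LThreeMB.self, Subgroup.orderOf_mk, hxo]
  have hi : ¬ 11 ∣ (centralizer ({(x : MG)} : Set MG)).index := by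
    intro h1
    apply H800.ME.Final.not_cube
    rw [← (centralizer ({(x : MG)} : Set MG)).card_mul_index, hcard, pow_succ, pow_two]
    exact mul_dvd_mul (Nat.mul_dvd_mul_left _ hd) h1
  obtain ⟨g, hg⟩ := exists_cj_le hp hA.card hi
  by_cases hle : cj g A ≤ zpowers (x : MG)
  · refine hinv zz hzo _ (hA.conj g) (hle.trans ?_)
    rw [zpowers_le]
    exact x.2
  · obtain ⟨a, ha, hax⟩ : ∃ a ∈ cj g A, a ∉ zpowers (x : MG) := SetLike.not_le_iff_exists.1 hle
    have hfX : Finite (XX (x : MG)) := inferInstance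
    refine kill_section hp (by norm_num) (QuotientGroup.mk' (Zx (x : MG))) (QuotientGroup.mk'_surjective _)
      (hM _ hiso) (hA.conj g) hg ⟨a, ha, fun h1 => hax ?_⟩
    have h2 : (⟨a, hg ha⟩ : centralizer ({(x : MG)} : Set MG)) ∈ Zx (x : MG) := (QuotientGroup.eq_one_iff _).1 h1
    obtain ⟨i, hi⟩ := mem_zpowers_iff.1 h2
    exact mem_zpowers_iff.2 ⟨i, congrArg Subtype.val hi⟩

/-- **the model** -/
theorem kill_model {p : ℕ} (hp : p.Prime) (hp5 : 5 ≤ p)
    (hinv : ∀ z : MG, orderOf z = 2 → ∀ A : Subgroup MG, Pr p A → ¬ A ≤ centralizer ({z} : Set MG))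
    (hJ : ∀ (L : Type) [Group L] [Finite L], Spor.IsoJ2 L → Kill p L)
    (hM : ∀ (L : Type) [Group L] [Finite L], Spor.IsoM12 L → Kill p L) : Kill p MG := by
  intro A hA
  rcases Nat.lt_or_ge 12 p with h12 | h12
  · exact hinv tm orderOf_tm A hA (no_six hp h12 hA tm_sq order_le)
  obtain rfl | rfl | rfl : p = 5 ∨ p = 7 ∨ p = 11 := by
    interval_cases p <;> first | (exfalso; revert hp; norm_num; done) | simp
  · exact five hA hJ
  · obtain ⟨z, hz, hle⟩ := seven hA
    exact hinv z hz A hA hle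
  · exact eleven hA hinv hM

/-- **the row `M`** -/
theorem kill_m {p : ℕ} (hp : p.Prime) (hp5 : 5 ≤ p) {G : Type u} [Group G] [Finite G] [IsSimpleGroup G]
    (h : Spor.IsoM G)
    (hinv : ∀ z : G, orderOf z = 2 → ∀ A : Subgroup G, Pr p A → ¬ A ≤ centralizer ({z} : Set G))
    (ih : ∀ (K : Type u) [Group K] [Finite K] [IsSimpleGroup K], Nat.card K < Nat.card G →
      (¬ ∀ x y : K, x * y = y * x) → Row p K) : Kill p G := by
  obtain ⟨e1⟩ := h
  obtain ⟨e2⟩ := MonsterP.Equiv.equiv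
  let e : MG ≃* G := (e1.trans e2).symm
  have hcard : Nat.card G = 808017424794512875886459904961710757005754368000000000 := by
    rw [← Nat.card_congr e.toEquiv, card_M]
  refine Kill.congr e (kill_model hp hp5 ?_ ?_ ?_)
  · intro z hz A hA hle
    refine hinv (e z) (by rw [MulEquiv.orderOf_eq, hz]) (A.map e.toMonoidHom) (hA.map_equiv e) ?_
    rintro _ ⟨a, ha, rfl⟩
    have h1 := mem_centralizer_singleton_iff.1 (hle ha)
    rw [mem_centralizer_singleton_iff]
    show e a * e z = e z * e a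
    rw [← map_mul, h1, map_mul]
  · rintro L _ _ ⟨f⟩
    have hs := S1620.result
    refine kill_small (G := G) hp hp5 ih ((MulEquiv.isSimpleGroup_congr f).2 hs.1)
      (n := 604800) (by rw [Nat.card_congr f.toEquiv]; exact J2Sylow.SporSylow.card_J2) (by rw [hcard]; norm_num) (by norm_num)
      (ok_of_chk [25, 7] (by norm_num) (by decide +kernel))
  · rintro L _ _ ⟨f⟩
    have hs := Schreier.MTwelve.isSimpleGroup
    refine kill_small (G := G) hp hp5 ih ((MulEquiv.isSimpleGroup_congr f).2 hs)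
      (n := 95040) (by rw [Nat.card_congr f.toEquiv]; exact MTwelveType.SylowModel.card_M12) (by rw [hcard]; norm_num)
      (by norm_num) (ok_of_chk [5, 11] (by norm_num) (by decide +kernel))

end Cfsg.Agent.H339.Tor.M
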