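import Cfsg.Agent.H33.Tor.Kill
import Cfsg.Agent.H339.Tor.TransNum

/-!
# S3235: kills through subgroups and sections (helper339)

* `exists_cj_le` : `Pr p A`, `p ∤ |G : H|`: a conjugate of `A` is in `H`;
* `Kill.section` : kill by a section;
* `kill_ulift`, `Row.kill` : a smaller simple group, in another universe, is killed.
-/

set_option autoImplicit false

namespace Cfsg.Agent.H339.Tor

open Subgroup Cfsg.Agent.H103.Tor Cfsg.Agent.H33.Tor

universe u v w

variable {p : ℕ} {G : Type u} [Group G]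

theorem exists_cj_le [Finite G] (hp : p.Prime) {A : Subgroup G} (hA : Nat.card A = p) {H : Subgroup G}
    (hi : ¬ p ∣ H.index) : ∃ g : G, cj g A ≤ H := by
  have hpf := Fact.mk hp
  obtain ⟨P, hP⟩ : ∃ P : Sylow p G, (P : Subgroup G) ≤ H := by
    obtain ⟨Q⟩ : Nonempty (Sylow p H) := inferInstance
    have h1 : Nat.card Q = p ^ (Nat.card G).factorization p := by
      rw [Sylow.card_eq_multiplicity]
      congr 1
      have h2 := Subgroup.card_mul_index H
      rw [← h2, Nat.factorization_mul Nat.card_pos.ne' (Subgroup.index_ne_zero_of_finite), Finsupp.add_apply,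
        Nat.factorization_eq_zero_of_not_dvd hi, add_zero]
    have h2 : Nat.card ((Q : Subgroup H).map H.subtype) = p ^ (Nat.card G).factorization p := by
      rw [← h1]
      exact (Nat.card_congr ((Q : Subgroup H).equivMapOfInjective _ (Subgroup.subtype_injective _)).toEquiv).symm
    refine ⟨Sylow.ofCard _ h2, ?_⟩
    show (Q : Subgroup H).map H.subtype ≤ H
    exact Subgroup.map_subtype_le _
  have hAp : IsPGroup p A := IsPGroup.of_card (n := 1) (by rw [hA, pow_one])
  obtain ⟨Q, hQ⟩ := hAp.exists_le_sylow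
  obtain ⟨g, hg⟩ := MulAction.exists_smul_eq G Q P
  refine ⟨g, le_trans ?_ hP⟩
  rw [← hg]
  exact Subgroup.map_mono hQ

/-- an involution whose centraliser has index prime to `p` -/
theorem kill_of_index [Finite G] (hp : p.Prime) {z : G} (hz : ¬ p ∣ (centralizer ({z} : Set G)).index)
    (hinv : ∀ A : Subgroup G, Pr p A → ¬ A ≤ centralizer ({z} : Set G)) : Kill p G := by
  intro A hA
  obtain ⟨g, hg⟩ := exists_cj_le hp hA.card hz
  exact hinv _ (hA.conj g) hg

/-- **a section** -/
theorem kill_section (hp : p.Prime) (hp5 : 5 ≤ p) {M : Subgroup G} {B : Type v} [Group B] (ρ : M →* B)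
    (hρ : Function.Surjective ρ) (hB : Kill p B) {A : Subgroup G} (hA : Pr p A) (hle : A ≤ M)
    (hne : ∃ (a : G) (ha : a ∈ A), ρ ⟨a, hle ha⟩ ≠ 1) : False := by
  refine hB _ ((hA.subgroupOf hle).map hp hp5 ρ hρ ?_)
  intro h
  obtain ⟨a, ha, h1⟩ := hne
  exact h1 (h (mem_subgroupOf.2 ha : (⟨a, hle ha⟩ : M) ∈ A.subgroupOf M))

omit [Group G] in
/-- a smaller simple group in another universe -/
theorem kill_small (hp : p.Prime) (hp5 : 5 ≤ p)
    (ih : ∀ (K : Type u) [Group K] [Finite K] [IsSimpleGroup K], Nat.card K < Nat.card G →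
      (¬ ∀ x y : K, x * y = y * x) → Row p K)
    {L : Type v} [Group L] [Finite L] (hs : IsSimpleGroup L) {n : ℕ} (hn : Nat.card L = n) (hlt : n < Nat.card G)
    (hnp : ¬ n.Prime) (hok : Ok n) : Kill p L := by
  obtain ⟨K, ⟨e'⟩⟩ : ∃ K : Type u, Nonempty (L ≃ K) := by
    obtain ⟨m, ⟨e⟩⟩ := Finite.exists_equiv_fin L
    exact ⟨ULift.{u} (Fin m), ⟨e.trans Equiv.ulift.symm⟩⟩
  let _ : Group K := e'.symm.group
  let f : K ≃* L := e'.symm.mulEquiv
  have hfin : Finite K := Finite.of_equiv _ e'
  have hsK : IsSimpleGroup K := (MulEquiv.isSimpleGroup_congr f).2 hs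
  have hcK : Nat.card K = n := by rw [Nat.card_congr f.toEquiv, hn]
  refine Kill.congr f (kill_of_row hp hp5 (ih K (by rw [hcK]; exact hlt) ?_) (by rw [hcK]; exact hok))
  intro hc
  have h1 : (Nat.card K).Prime := by
    let _ : CommGroup K := { (inferInstance : Group K) with mul_comm := hc }
    exact IsSimpleGroup.prime_card
  rw [hcK] at h1
  exact hnp h1

end Cfsg.Agent.H339.Tor
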