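import Cfsg.Agent.H339.Tor.Sect
import Cfsg.Agent.H609.T5.MMidSeven
import Cfsg.Agent.S2540

/-!
# S3235: the Monster, `p = 7` (helper339)

`W = ⟨w, w₁⟩` of order 49; `A = ⟨X⟩` acts on `W` as a transvection group, `a w a⁻¹ = w₁`, `a w₁ a⁻¹ = w⁻¹`. If `Pr 7 A` then
`A`, `a A a⁻¹` generate an `SLT` acting on `W` as `SL₂(7)`: its central involution commutes with `A` (`exists_inv`).
-/

set_option autoImplicit false

namespace Cfsg.Agent.H339.Tor.Seven

open Subgroup Cfsg.Agent.H103.Tor Cfsg.Agent.H33.Tor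
open Cfsg.Agent.H609.T5.Seven (exists_two inv_iter pow_act not_dvd_mul)
open Cfsg.Agent.H333.SLTwoLine (Ker1 u l)

variable {K : Type*} [Group K] {w w1 a x y : K}

open Matrix (SpecialLinearGroup)

/-- **opposite transvections**: `(X V ^ j)²` inverts `w` and `w₁` for some `j` -/
theorem exists_invert {X V : K} {m n : ℤ} (hwo : orderOf w = 7) (hw1o : orderOf w1 = 7) (hww1 : w * w1 = w1 * w)
    (hm : ¬ (7 : ℤ) ∣ m) (hn : ¬ (7 : ℤ) ∣ n) (h1 : X * w = w * X) (h2 : X * w1 * X⁻¹ = w1 * w ^ m)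
    (h3 : V * w1 = w1 * V) (h4 : V * w * V⁻¹ = w * w1 ^ (-n)) :
    ∃ j : ℕ, (X * V ^ j) ^ 2 * w * ((X * V ^ j) ^ 2)⁻¹ = w⁻¹ ∧ (X * V ^ j) ^ 2 * w1 * ((X * V ^ j) ^ 2)⁻¹ = w1⁻¹ := by
  obtain ⟨j, hj⟩ := exists_two (not_dvd_mul hm hn)
  refine ⟨j, ?_⟩
  have hcw : Commute w w1 := hww1
  obtain ⟨c, hc⟩ : ∃ c : ℤ, c = -n * j := ⟨_, rfl⟩
  have e1 : V ^ j * w * (V ^ j)⁻¹ = w * w1 ^ c := by
    rw [hc]
    exact pow_act h3 h4 j
  have e2 : V ^ j * w1 * (V ^ j)⁻¹ = w1 := by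
    rw [((show Commute V w1 from h3).pow_left j).eq, mul_inv_cancel_right]
  have e3 : X * w * X⁻¹ = w := by rw [h1, mul_inv_cancel_right]
  obtain ⟨P, hP⟩ : ∃ P, P = X * V ^ j := ⟨_, rfl⟩
  rw [← hP]
  have hmc : m * c = -(m * n * j) := by rw [hc]; ring
  have hv2 : ∀ v : K, orderOf v = 7 → v ^ (m * c) = v ^ (-2 : ℤ) := by
    intro v hv
    have e4 : v ^ (m * c + 2) = 1 := by
      rw [← orderOf_dvd_iff_zpow_eq_one, hv, hmc]
      have e5 : -(m * n * j) + 2 = -(m * n * j - 2) := by ring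
      push_cast
      rw [e5, dvd_neg]
      exact hj
    have e6 : v ^ (m * c) * v ^ (2 : ℤ) = 1 := by rw [← zpow_add, e4]
    rw [eq_inv_of_mul_eq_one_left e6, zpow_neg]
  have hw2 := hv2 w hwo
  have hw12 := hv2 w1 hw1o
  have p1 : P * w * P⁻¹ = w⁻¹ * w1 ^ c := by
    calc P * w * P⁻¹ = X * (V ^ j * w * (V ^ j)⁻¹) * X⁻¹ := by rw [hP]; group
      _ = (X * w * X⁻¹) * (X * w1 * X⁻¹) ^ c := by rw [e1, conj_zpow]; group
      _ = w * (w1 ^ c * w ^ (m * c)) := by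
        rw [e3, h2, ((hcw.zpow_left m).symm).mul_zpow, ← zpow_mul]
      _ = w * (w ^ (m * c) * w1 ^ c) := by rw [((hcw.zpow_zpow (m * c) c)).eq]
      _ = w⁻¹ * w1 ^ c := by rw [hw2]; group
  have p2 : P * w1 * P⁻¹ = w1 * w ^ m := by
    calc P * w1 * P⁻¹ = X * (V ^ j * w1 * (V ^ j)⁻¹) * X⁻¹ := by rw [hP]; group
      _ = w1 * w ^ m := by rw [e2, h2]
  constructor
  · have q : P * (w⁻¹ * w1 ^ c) * P⁻¹ = (P * w * P⁻¹)⁻¹ * (P * w1 * P⁻¹) ^ c := by rw [conj_zpow]; group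
    calc P ^ 2 * w * (P ^ 2)⁻¹ = P * (P * w * P⁻¹) * P⁻¹ := by rw [pow_two]; group
      _ = P * (w⁻¹ * w1 ^ c) * P⁻¹ := by rw [p1]
      _ = (w⁻¹ * w1 ^ c)⁻¹ * (w1 * w ^ m) ^ c := by rw [q, p1, p2]
      _ = (w1 ^ c)⁻¹ * w * (w1 ^ c * w ^ (m * c)) := by
        rw [((hcw.zpow_left m).symm).mul_zpow, ← zpow_mul, mul_inv_rev, inv_inv]
      _ = (w1 ^ c)⁻¹ * (w * w1 ^ c) * w ^ (m * c) := by group
      _ = w * w ^ (m * c) := by rw [(hcw.zpow_right c).eq]; group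
      _ = w⁻¹ := by rw [hw2]; group
  · have q : P * (w1 * w ^ m) * P⁻¹ = (P * w1 * P⁻¹) * (P * w * P⁻¹) ^ m := by rw [conj_zpow]; group
    calc P ^ 2 * w1 * (P ^ 2)⁻¹ = P * (P * w1 * P⁻¹) * P⁻¹ := by rw [pow_two]; group
      _ = (w1 * w ^ m) * (w⁻¹ * w1 ^ c) ^ m := by rw [p2, q, p1, p2]
      _ = (w1 * w ^ m) * ((w⁻¹) ^ m * w1 ^ (c * m)) := by
        rw [((hcw.inv_left.zpow_right c)).mul_zpow, ← zpow_mul]
      _ = w1 * w1 ^ (m * c) := by rw [mul_comm c m]; group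
      _ = w1⁻¹ := by rw [hw12]; group

/-- an element of order 7 is not its inverse -/
theorem ne_inv (hwo : orderOf w = 7) : w ≠ w⁻¹ := by
  intro h
  have h1 : w ^ 2 = 1 := by
    rw [pow_two]
    nth_rewrite 1 [h]
    exact inv_mul_cancel w
  have h2 := orderOf_dvd_of_pow_eq_one h1
  rw [hwo] at h2
  norm_num at h2

/-- **the central involution** -/
theorem exists_inv {A : Subgroup K} (hA : Pr 7 A) {X : K} (hX : X ∈ A) {m : ℤ} (hwo : orderOf w = 7)
    (hww1 : w * w1 = w1 * w) (haw : a * w * a⁻¹ = w1) (haw1 : a * w1 * a⁻¹ = w⁻¹)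
    (hm : ¬ (7 : ℤ) ∣ m) (h1 : X * w = w * X) (h2 : X * w1 * X⁻¹ = w1 * w ^ m) :
    ∃ z : K, orderOf z = 2 ∧ A ≤ centralizer ({z} : Set K) := by
  have hp : Nat.Prime 7 := by norm_num
  have hp5 : 5 ≤ 7 := by norm_num
  have hw1o : orderOf w1 = 7 := by rw [← haw, ← MulAut.conj_apply, MulEquiv.orderOf_eq, hwo]
  obtain ⟨V, hV⟩ : ∃ V, V = a * X * a⁻¹ := ⟨_, rfl⟩
  have hVA : V ∈ cj a A := by rw [hV]; exact conj_mem_cj hX
  have h3 : V * w1 = w1 * V := by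
    rw [hV, ← haw]
    calc a * X * a⁻¹ * (a * w * a⁻¹) = a * (X * w) * a⁻¹ := by group
      _ = a * w * a⁻¹ * (a * X * a⁻¹) := by rw [h1]; group
  have h4 : V * w * V⁻¹ = w * w1 ^ (-m) := by
    have e1 : w = a * w1⁻¹ * a⁻¹ := by
      have : a * w1⁻¹ * a⁻¹ = (a * w1 * a⁻¹)⁻¹ := by rw [conj_inv]
      rw [this, haw1, inv_inv]
    have e2 : a * w ^ (-m) * a⁻¹ = w1 ^ (-m) := by rw [← haw, conj_zpow]
    have e3 : X * w1⁻¹ * X⁻¹ = w1⁻¹ * w ^ (-m) := by
      have : X * w1⁻¹ * X⁻¹ = (X * w1 * X⁻¹)⁻¹ := by rw [conj_inv]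
      rw [this, h2, mul_inv_rev, ← zpow_neg]
      exact (((show Commute w w1 from hww1).zpow_left (-m)).inv_right).eq
    rw [hV]
    calc a * X * a⁻¹ * w * (a * X * a⁻¹)⁻¹ = a * X * a⁻¹ * (a * w1⁻¹ * a⁻¹) * (a * X * a⁻¹)⁻¹ := by rw [← e1]
      _ = a * (X * w1⁻¹ * X⁻¹) * a⁻¹ := by group
      _ = (a * w1⁻¹ * a⁻¹) * (a * w ^ (-m) * a⁻¹) := by rw [e3]; group
      _ = w * w1 ^ (-m) := by rw [← e1, e2]
  obtain ⟨j, r1, r2⟩ := exists_invert hwo hw1o hww1 hm hm h1 h2 h3 h4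
  obtain ⟨R, hR⟩ : ∃ R, R = (X * V ^ j) ^ 2 := ⟨_, rfl⟩
  rw [← hR] at r1 r2
  have hX7 : X ^ 7 = 1 := by
    have h5 : (⟨X, hX⟩ : A) ^ Nat.card A = 1 := pow_card_eq_one'
    rw [hA.card] at h5
    exact congrArg Subtype.val h5
  have hnc : ¬ Cm A (cj a A) := by
    intro hcm
    have hXV : Commute X V := hcm X hX V hVA
    have hV7 : V ^ 7 = 1 := by rw [hV, conj_pow, hX7]; group
    have hR7 : R ^ 7 = 1 := by
      rw [hR, ← pow_mul, mul_comm, pow_mul, (hXV.pow_right j).mul_pow, hX7, ← pow_mul, mul_comm j, pow_mul, hV7]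
      simp
    have h5 := inv_iter r1 3
    rw [show 2 * 3 + 1 = 7 from rfl, hR7] at h5
    exact ne_inv hwo (by rw [← h5]; group)
  obtain ⟨F, _, _, _, k, φ, x, y, hk, hF, hφ, hr, hx, hy, hAx, hBy⟩ := exists_pair hp hp5 hA.card
    (by rw [card_cj]; exact hA.card) ((hA.pair a).resolve_left hnc) hnc
  -- the subgroup `W`
  obtain ⟨W, hW⟩ : ∃ W, W = closure ({w, w1} : Set K) := ⟨_, rfl⟩
  have hwW : w ∈ W := by rw [hW]; exact subset_closure (by simp)
  have hw1W : w1 ∈ W := by rw [hW]; exact subset_closure (by simp)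
  have hWc : ∀ v ∈ W, ∀ v' ∈ W, v * v' = v' * v := by
    have hc1 : ∀ c : K, c * w = w * c → c * w1 = w1 * c → ∀ v ∈ W, v * c = c * v := by
      intro c hcw hcw1 v hv
      have hle : W ≤ centralizer ({c} : Set K) := by
        rw [hW, closure_le]
        rintro v (rfl | rfl)
        · exact mem_centralizer_singleton_iff.2 hcw.symm
        · exact mem_centralizer_singleton_iff.2 hcw1.symm
      exact mem_centralizer_singleton_iff.1 (hle hv)
    intro v hv v' hv'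
    exact hc1 v' ((hc1 w rfl hww1 v' hv')) ((hc1 w1 hww1.symm rfl v' hv')) v hv
  have hgen : ∀ g : K, g ^ 7 = 1 → g * w * g⁻¹ ∈ W → g * w1 * g⁻¹ ∈ W → g ∈ normalizer (W : Set K) := by
    intro g hg7 hgw hgw1
    have hone : ∀ v ∈ W, g * v * g⁻¹ ∈ W := by
      have hle : W ≤ W.comap (MulAut.conj g).toMonoidHom := by
        conv_lhs => rw [hW]
        rw [closure_le]
        rintro v (rfl | rfl)
        · exact hgw
        · exact hgw1
      intro v hv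
      exact hle hv
    have hit : ∀ n : ℕ, ∀ v ∈ W, g ^ n * v * (g ^ n)⁻¹ ∈ W := by
      intro n
      induction n with
      | zero => intro v hv; simpa using hv
      | succ n ih =>
        intro v hv
        have e : g ^ (n + 1) * v * (g ^ (n + 1))⁻¹ = g * (g ^ n * v * (g ^ n)⁻¹) * g⁻¹ := by
          rw [pow_succ']; group
        rw [e]
        exact hone _ (ih v hv)
    rw [mem_normalizer_iff]
    intro v
    refine ⟨hone v, fun hv => ?_⟩
    have h5 := hit 6 _ hv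
    have e : g ^ 6 * (g * v * g⁻¹) * (g ^ 6)⁻¹ = g ^ 7 * v * (g ^ 7)⁻¹ := by
      rw [show (7 : ℕ) = 6 + 1 from rfl, pow_succ]; group
    rw [e, hg7] at h5
    simpa using h5
  have hX1 : X ≠ 1 := by
    rintro rfl
    rw [one_mul, inv_one, mul_one] at h2
    have h5 : w ^ m = 1 := by
      have h6 : w1 * 1 = w1 * w ^ m := by rw [mul_one]; exact h2
      exact (mul_left_cancel h6).symm
    rw [← orderOf_dvd_iff_zpow_eq_one, hwo] at h5
    exact hm (by exact_mod_cast h5)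
  have hAX : A = zpowers X := by
    refine le_antisymm (fun b hb => ?_) (zpowers_le.2 hX)
    have : Fact (Nat.Prime 7) := ⟨hp⟩
    have h5 := mem_zpowers_of_prime_card (g := (⟨X, hX⟩ : A)) (g' := ⟨b, hb⟩) hA.card (fun h => hX1 (congrArg Subtype.val h))
    obtain ⟨i, hi⟩ := mem_zpowers_iff.1 h5
    exact mem_zpowers_iff.2 ⟨i, congrArg Subtype.val hi⟩
  have hV7 : V ^ 7 = 1 := by rw [hV, conj_pow, hX7]; group
  have hXN : X ∈ normalizer (W : Set K) := by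
    refine hgen X hX7 ?_ ?_
    · rw [h1, mul_inv_cancel_right]; exact hwW
    · rw [h2]; exact mul_mem hw1W (zpow_mem hwW m)
  have hVN : V ∈ normalizer (W : Set K) := by
    refine hgen V hV7 ?_ ?_
    · rw [h4]; exact mul_mem hwW (zpow_mem hw1W _)
    · rw [h3, mul_inv_cancel_right]; exact hw1W
  have hle : A ⊔ cj a A ≤ normalizer (W : Set K) := by
    refine sup_le (by rw [hAX, zpowers_le]; exact hXN) ?_
    rintro _ ⟨b, hb, rfl⟩
    rw [hAX] at hb
    obtain ⟨i, rfl⟩ := mem_zpowers_iff.1 hb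
    have e : (MulAut.conj a).toMonoidHom (X ^ i) = V ^ i := by
      rw [map_zpow, hV]; rfl
    rw [e]
    exact zpow_mem hVN i
  have hnorm : ∀ g : SpecialLinearGroup (Fin 2) F, ∀ v ∈ W, φ g * v * (φ g)⁻¹ ∈ W := by
    intro g v hv
    have h5 : φ g ∈ normalizer (W : Set K) := hle (hr ▸ ⟨g, rfl⟩)
    exact (mem_normalizer_iff.1 h5 v).1 hv
  -- the elements acting as `±1`
  let M : Subgroup (SpecialLinearGroup (Fin 2) F) :=
    { carrier := {g | (∀ v ∈ W, φ g * v * (φ g)⁻¹ = v) ∨ (∀ v ∈ W, φ g * v * (φ g)⁻¹ = v⁻¹)}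
      one_mem' := Or.inl fun v _ => by simp
      mul_mem' := by
        have e : ∀ (g g' : SpecialLinearGroup (Fin 2) F) (v : K),
            φ (g * g') * v * (φ (g * g'))⁻¹ = φ g * (φ g' * v * (φ g')⁻¹) * (φ g)⁻¹ := by
          intro g g' v; rw [map_mul]; group
        rintro g g' (h | h) (h' | h')
        · exact Or.inl fun v hv => by rw [e, h' v hv, h v hv]
        · exact Or.inr fun v hv => by rw [e, h' v hv, h _ (inv_mem hv)]
        · exact Or.inr fun v hv => by rw [e, h' v hv, h v hv]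
        · exact Or.inl fun v hv => by rw [e, h' v hv, h _ (inv_mem hv), inv_inv]
      inv_mem' := by
        have e : ∀ (g : SpecialLinearGroup (Fin 2) F) (v : K),
            φ g⁻¹ * v * (φ g⁻¹)⁻¹ = (φ g)⁻¹ * v * φ g := by
          intro g v; rw [map_inv]; group
        rintro g (h | h)
        · refine Or.inl fun v hv => ?_
          rw [e]
          calc (φ g)⁻¹ * v * φ g = (φ g)⁻¹ * (φ g * v * (φ g)⁻¹) * φ g := by rw [h v hv]
            _ = v := by group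
        · refine Or.inr fun v hv => ?_
          rw [e]
          calc (φ g)⁻¹ * v * φ g = (φ g)⁻¹ * (φ g * v⁻¹ * (φ g)⁻¹) * φ g := by rw [h _ (inv_mem hv), inv_inv]
            _ = v⁻¹ := by group }
  have hMn : M.Normal := by
    refine ⟨fun g hg k => ?_⟩
    have e : ∀ v : K, φ (k * g * k⁻¹) * v * (φ (k * g * k⁻¹))⁻¹ =
        φ k * (φ g * (φ k⁻¹ * v * (φ k⁻¹)⁻¹) * (φ g)⁻¹) * (φ k)⁻¹ := by
      intro v; rw [map_mul, map_mul]; group
    have e2 : ∀ v : K, φ k * (φ k⁻¹ * v * (φ k⁻¹)⁻¹) * (φ k)⁻¹ = v := by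
      intro v; rw [map_inv]; group
    rcases hg with h | h
    · refine Or.inl fun v hv => ?_
      rw [e, h _ (hnorm k⁻¹ v hv), e2]
    · refine Or.inr fun v hv => ?_
      rw [e, h _ (hnorm k⁻¹ v hv)]
      calc φ k * (φ k⁻¹ * v * (φ k⁻¹)⁻¹)⁻¹ * (φ k)⁻¹ = (φ k * (φ k⁻¹ * v * (φ k⁻¹)⁻¹) * (φ k)⁻¹)⁻¹ := by group
        _ = v⁻¹ := by rw [e2]
  have hF3 : 3 < Fintype.card F := by
    rw [hF]
    calc 3 < 7 := by norm_num
      _ = 7 ^ 1 := (pow_one 7).symm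
      _ ≤ 7 ^ k := Nat.pow_le_pow_right (by norm_num) hk
  obtain ⟨i, hi⟩ := mem_zpowers_iff.1 (hAx ▸ hX : X ∈ zpowers (φ (u x)))
  obtain ⟨ρ, hρ⟩ : ∃ ρ : SpecialLinearGroup (Fin 2) F, φ ρ = R := by
    have h5 : R ∈ A ⊔ cj a A := by
      rw [hR]
      exact pow_mem (mul_mem (mem_sup_left hX) (pow_mem (mem_sup_right hVA) j)) 2
    rw [← hr] at h5
    exact h5
  have hρM : ρ ∈ M := by
    refine Or.inr fun v hv => ?_
    rw [hρ]
    rw [hW] at hv
    induction hv using closure_induction with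
    | mem v hv =>
      rcases hv with rfl | rfl
      · exact r1
      · exact r2
    | one => simp
    | mul v v' hv hv' h h' =>
      rw [← hW] at hv hv'
      calc R * (v * v') * R⁻¹ = (R * v * R⁻¹) * (R * v' * R⁻¹) := by group
        _ = v⁻¹ * v'⁻¹ := by rw [h, h']
        _ = (v' * v)⁻¹ := by group
        _ = (v * v')⁻¹ := by rw [hWc v hv v' hv']
    | inv v hv h =>
      calc R * v⁻¹ * R⁻¹ = (R * v * R⁻¹)⁻¹ := by group
        _ = v⁻¹⁻¹ := by rw [h]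
  have hR1 : R ≠ 1 := by
    intro h5
    rw [h5] at r1
    exact ne_inv hwo (by rw [← r1]; group)
  rcases Cfsg.Agent.S2540.normal_dichotomy (Cfsg.Agent.TwoFusion.SLTwoFacts.commutator_eq_top hF3)
    (Cfsg.Agent.TwoFusion.SLTwoFacts.isSimpleGroup_psl hF3) M with h5 | h5
  swap
  · exfalso
    have h6 : u x ^ i ∈ M := by rw [h5]; trivial
    have h7 : φ (u x ^ i) = X := by rw [map_zpow, hi]
    rcases h6 with h | h
    · have h8 := h w1 hw1W
      rw [h7, h2] at h8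
      have h9 : w ^ m = 1 := by
        have h10 : w1 * w ^ m = w1 * 1 := by rw [mul_one]; exact h8
        exact mul_left_cancel h10
      rw [← orderOf_dvd_iff_zpow_eq_one, hwo] at h9
      exact hm (by exact_mod_cast h9)
    · have h8 := h w hwW
      rw [h7, h1, mul_inv_cancel_right] at h8
      exact ne_inv hwo h8
  · obtain ⟨r, hr, hrx⟩ := Matrix.SpecialLinearGroup.mem_center_iff.1 (h5 hρM)
    have hr2 : r ^ 2 = 1 := by simpa using hr
    have h6 : (r - 1) * (r + 1) = 0 := by linear_combination hr2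
    have h7 : ρ * ρ = 1 := by
      apply Subtype.ext
      show ρ.1 * ρ.1 = 1
      rw [← hrx, ← map_mul, ← pow_two, hr2, map_one]
    have h8 : ∀ g : SpecialLinearGroup (Fin 2) F, ρ * g = g * ρ := fun g => (mem_center_iff.1 (h5 hρM) g).symm
    refine ⟨R, ?_, ?_⟩
    · have : Fact (Nat.Prime 2) := ⟨Nat.prime_two⟩
      exact orderOf_eq_prime (by rw [pow_two, ← hρ, ← map_mul, h7, map_one]) hR1
    · rw [hAx, zpowers_le, mem_centralizer_singleton_iff, ← hρ, ← map_mul, ← map_mul, h8]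

end Cfsg.Agent.H339.Tor.Seven
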